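import Mathlib
import Cfsg.Prelude.Def_SevenCases
import Cfsg.Agent.CpQuot.Congr
import Cfsg.Agent.SignalizersComponents.Components
import Cfsg.Agent.SignalizersComponents.ComponentImage
import Cfsg.Agent.SignalizersComponents.PCompQuot

/-!
# Components of centralizers and elements of `L_p`, `L_p°` (helper35)

Tools for rows of the form "`G` has an element `x` of order `p` and a component `K` of `C_G(x)` with ...".

* `subnormal_of_conj` : `K ≤ C` whose `C`-conjugates are contained in `K` or commute with `K` is subnormal in `C`;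
* `isComponentOf_of_conj`, `isComponentOf_of_normalized` : so it is a component if it is quasisimple;
* `comp_image` : a component `K` of `C` of order divisible by `p` gives a component `≅ K / O_{p'}(K)` of `C / O_{p'}(C)`;
* `lpExists_of_comp`, `lpoExists_of_comp` (a property of `K / O_{p'}(K)`), `lpExists_of_comp_self`,
  `lpoExists_of_comp_self` (a property of `K`, if `O_{p'}(K) = 1`, e.g. `Z(K)` is a `p`-group);
* `Cover` : the case of a central quotient `π : X → G` of a (matrix) group: `Cover.isComponentOf`;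
* `InGp.congr`, `InBTwo.congr` : invariance.
-/

set_option autoImplicit false

namespace Cfsg.Agent.OddTab

open Subgroup Cfsg
open Cfsg.Agent.SignalizersComponents.Components Cfsg.Agent.CpQuot

universe u v w

/-! ### Subnormality -/

/-- A subgroup whose conjugates are contained in it or commute with it is subnormal. -/
theorem subnormal_of_conj' {Y : Type*} [Group Y] {J : Subgroup Y}
    (hc : ∀ g : Y, (∀ x ∈ J, g * x * g⁻¹ ∈ J) ∨ (∀ x ∈ J, ∀ y ∈ J, g * x * g⁻¹ * y = y * (g * x * g⁻¹))) :
    J.IsSubnormal := by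
  refine Subgroup.IsSubnormal.step J (Subgroup.normalClosure (J : Set Y)) Subgroup.le_normalClosure
    (Subgroup.Normal.isSubnormal inferInstance) ?_
  have key : Subgroup.normalClosure (J : Set Y) ≤ Subgroup.normalizer (J : Set Y) := by
    unfold Subgroup.normalClosure
    rw [Subgroup.closure_le]
    intro y hy
    rw [Group.mem_conjugatesOfSet_iff] at hy
    obtain ⟨x, hx, hxy⟩ := hy
    obtain ⟨g, rfl⟩ := isConj_iff.1 hxy
    rcases hc g with h | h
    · exact Subgroup.le_normalizer (h x hx)
    · refine Subgroup.mem_normalizer_iff.2 fun z => ?_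
      constructor
      · intro hz
        have h1 := h x hx z hz
        have : g * x * g⁻¹ * z * (g * x * g⁻¹)⁻¹ = z := by rw [h1]; group
        rw [this]; exact hz
      · intro hz
        have h1 := h x hx _ hz
        have h3 : z = g * x * g⁻¹ * z * (g * x * g⁻¹)⁻¹ := by
          rw [inv_mul_cancel_right] at h1
          exact (mul_left_cancel h1).symm
        rw [h3]; exact hz
  constructor
  intro x hx g
  rw [Subgroup.mem_subgroupOf] at hx ⊢
  exact (Subgroup.mem_normalizer_iff.1 (key g.2) _).1 hx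

/-- A subgroup of `C` whose `C`-conjugates are contained in it or commute with it is subnormal in `C`. -/
theorem subnormal_of_conj {Y : Type*} [Group Y] {C J : Subgroup Y}
    (hc : ∀ g ∈ C, (∀ x ∈ J, g * x * g⁻¹ ∈ J) ∨ (∀ x ∈ J, ∀ y ∈ J, g * x * g⁻¹ * y = y * (g * x * g⁻¹))) :
    (J.subgroupOf C).IsSubnormal := by
  refine subnormal_of_conj' fun g => ?_
  rcases hc g.1 g.2 with h | h
  · left
    intro x hx
    rw [Subgroup.mem_subgroupOf] at hx ⊢
    exact h _ hx
  · right
    intro x hx y hy
    rw [Subgroup.mem_subgroupOf] at hx hy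
    exact Subtype.ext (h _ hx _ hy)

/-! ### Components of a subgroup -/

/-- A quasisimple subgroup whose `C`-conjugates are contained in it or commute with it is a component of `C`. -/
theorem isComponentOf_of_conj {G : Type*} [Group G] {C K : Subgroup G} (hle : K ≤ C) (hq : IsQuasisimple ↥K)
    (hc : ∀ g ∈ C, (∀ x ∈ K, g * x * g⁻¹ ∈ K) ∨ (∀ x ∈ K, ∀ y ∈ K, g * x * g⁻¹ * y = y * (g * x * g⁻¹))) :
    IsComponentOf K C :=
  ⟨hle, subnormal_of_conj hc, isQuasisimple_of_mulEquiv (subgroupOfEquivOfLe hle).symm hq⟩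

/-- A quasisimple subgroup normalized by `C ≥ K` is a component of `C`. -/
theorem isComponentOf_of_normalized {G : Type*} [Group G] {C K : Subgroup G} (hle : K ≤ C) (hq : IsQuasisimple ↥K)
    (hc : ∀ g ∈ C, ∀ x ∈ K, g * x * g⁻¹ ∈ K) : IsComponentOf K C :=
  isComponentOf_of_conj hle hq fun g hg => Or.inl (hc g hg)

theorem isQuasisimple_of_isComponentOf {G : Type*} [Group G] {C K : Subgroup G} (h : IsComponentOf K C) :
    IsQuasisimple ↥K := isQuasisimple_of_mulEquiv (subgroupOfEquivOfLe h.1) h.2.2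

/-- **Image of a component**: a component `K` of `C` whose order is divisible by `p` gives the component
`K / O_{p'}(K)` of `C / O_{p'}(C)`. -/
theorem comp_image (p : ℕ) {G : Type u} [Group G] [Finite G] {C K : Subgroup G} (hK : IsComponentOf K C)
    (hp : ¬ (Nat.card ↥K).Coprime p) :
    ∃ L : Subgroup (↥C ⧸ pPrimeCore p ↥C), IsComponent L ∧ Nonempty ((↥K ⧸ pPrimeCore p ↥K) ≃* ↥L) := by
  obtain ⟨hle, hcomp⟩ := hK
  have e0 : ↥(K.subgroupOf C) ≃* ↥K := subgroupOfEquivOfLe hle
  obtain ⟨e, -⟩ := SignalizersComponents.PCompQuot.exists_quotient_equiv p hcomp.1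
  refine ⟨(K.subgroupOf C).map (QuotientGroup.mk' (pPrimeCore p ↥C)), ?_, ?_⟩
  · rcases SignalizersComponents.ComponentImage.map_eq_bot_or_isComponent
      (QuotientGroup.mk'_surjective (pPrimeCore p ↥C)) hcomp with h | h
    · exfalso
      rw [Subgroup.map_eq_bot_iff, QuotientGroup.ker_mk'] at h
      have h1 : (Nat.card ↥(K.subgroupOf C)).Coprime p :=
        Nat.Coprime.coprime_dvd_left (Subgroup.card_dvd_of_le h) (Lib.Cores.pPrimeCore_coprime p)
      rw [Nat.card_congr e0.toEquiv] at h1
      exact hp h1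
    · exact h
  · exact ⟨(QuotientGroup.congr (pPrimeCore p ↥K) (pPrimeCore p ↥(K.subgroupOf C)) e0.symm
      (Lib.Cores.map_equiv_pPrimeCore e0.symm p)).trans e⟩

/-- `O_{p'}(K) = 1` for `K` quasisimple with `p ∣ |K|` and centre a `p`-group -/
theorem pPrimeCore_eq_bot_of_quasisimple {p : ℕ} [Fact p.Prime] {K : Type*} [Group K] [Finite K] (hq : IsQuasisimple K)
    (hp : ¬ (Nat.card K).Coprime p) (hz : IsPGroup p ↥(center K)) : pPrimeCore p K = ⊥ := by
  have hc := Lib.Cores.pPrimeCore_coprime (G := K) p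
  rcases quasisimple_normal hq _ (Lib.Cores.pPrimeCore_normal (G := K) p) with h | h
  · exfalso
    rw [h, Nat.card_congr Subgroup.topEquiv.toEquiv] at hc
    exact hp hc
  · have h1 : IsPGroup p ↥(pPrimeCore p K) := hz.to_le h
    rw [← Subgroup.card_eq_one]
    obtain ⟨k, hk⟩ := IsPGroup.iff_card.1 h1
    rw [hk] at hc ⊢
    rcases Nat.eq_zero_or_pos k with rfl | hk0
    · rfl
    · exact absurd ((Nat.coprime_pow_left_iff hk0 _ _).1 hc)
        ((Nat.Prime.coprime_iff_not_dvd Fact.out).not.2 (not_not.2 dvd_rfl))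

section Lp

variable {G : Type u} [Group G] [Finite G] {p : ℕ} {x : G} {K : Subgroup G}
  {P : ∀ (K : Type u) [Group K], Prop}

/-- An element of `L_p(G)` from a component of `C_G(x)`. -/
theorem lpExists_of_comp (hx : orderOf x = p) (hK : IsComponentOf K (centralizer ({x} : Set G)))
    (hp : ¬ (Nat.card ↥K).Coprime p)
    (hP : ∀ (A B : Type u) [Group A] [Group B], (A ≃* B) → P A → P B) (h : P (↥K ⧸ pPrimeCore p ↥K)) :
    LpExists p G P := by
  obtain ⟨L, hL, ⟨e⟩⟩ := comp_image p hK hp
  exact ⟨x, hx, L, hL, hP _ _ e h⟩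

/-- An element of `L_p°(G)` from a component of `C_G(x)`. -/
theorem lpoExists_of_comp (hx : orderOf x = p)
    (hr : PRankAtLeast p (if p = 2 then 3 else 4) ↥(centralizer ({x} : Set G)))
    (hK : IsComponentOf K (centralizer ({x} : Set G))) (hp : ¬ (Nat.card ↥K).Coprime p)
    (hP : ∀ (A B : Type u) [Group A] [Group B], (A ≃* B) → P A → P B) (h : P (↥K ⧸ pPrimeCore p ↥K)) :
    LpoExists p G P := by
  obtain ⟨L, hL, ⟨e⟩⟩ := comp_image p hK hp
  exact ⟨x, hx, hr, L, hL, hP _ _ e h⟩

/-- `K / O_{p'}(K) ≅ K` -/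
noncomputable def quoCoreEquiv {K : Type*} [Group K] (h : pPrimeCore p K = ⊥) : K ≃* K ⧸ pPrimeCore p K :=
  ((QuotientGroup.quotientMulEquivOfEq h).trans QuotientGroup.quotientBot).symm

/-- An element of `L_p(G)` from a component `K` of `C_G(x)` with `Z(K)` a `p`-group. -/
theorem lpExists_of_comp_self [Fact p.Prime] (hx : orderOf x = p) (hK : IsComponentOf K (centralizer ({x} : Set G)))
    (hp : ¬ (Nat.card ↥K).Coprime p) (hz : IsPGroup p ↥(center ↥K))
    (hP : ∀ (A B : Type u) [Group A] [Group B], (A ≃* B) → P A → P B) (h : P ↥K) :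
    LpExists p G P :=
  lpExists_of_comp hx hK hp hP
    (hP _ _ (quoCoreEquiv (pPrimeCore_eq_bot_of_quasisimple (isQuasisimple_of_isComponentOf hK) hp hz)) h)

/-- An element of `L_p°(G)` from a component `K` of `C_G(x)` with `Z(K)` a `p`-group. -/
theorem lpoExists_of_comp_self [Fact p.Prime] (hx : orderOf x = p)
    (hr : PRankAtLeast p (if p = 2 then 3 else 4) ↥(centralizer ({x} : Set G)))
    (hK : IsComponentOf K (centralizer ({x} : Set G))) (hp : ¬ (Nat.card ↥K).Coprime p)
    (hz : IsPGroup p ↥(center ↥K))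
    (hP : ∀ (A B : Type u) [Group A] [Group B], (A ≃* B) → P A → P B) (h : P ↥K) :
    LpoExists p G P :=
  lpoExists_of_comp hx hr hK hp hP
    (hP _ _ (quoCoreEquiv (pPrimeCore_eq_bot_of_quasisimple (isQuasisimple_of_isComponentOf hK) hp hz)) h)

/-- `LpAll` fails -/
theorem not_lpAll_of_comp (hx : orderOf x = p) (hK : IsComponentOf K (centralizer ({x} : Set G)))
    (hp : ¬ (Nat.card ↥K).Coprime p)
    (hP : ∀ (A B : Type u) [Group A] [Group B], (A ≃* B) → P A → P B) (h : ¬ P (↥K ⧸ pPrimeCore p ↥K)) :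
    ¬ LpAll p G P := by
  intro hall
  obtain ⟨L, hL, ⟨e⟩⟩ := comp_image p hK hp
  exact h (hP _ _ e.symm (hall x hx L hL))

/-- `LpoAll` fails -/
theorem not_lpoAll_of_comp (hx : orderOf x = p)
    (hr : PRankAtLeast p (if p = 2 then 3 else 4) ↥(centralizer ({x} : Set G)))
    (hK : IsComponentOf K (centralizer ({x} : Set G))) (hp : ¬ (Nat.card ↥K).Coprime p)
    (hP : ∀ (A B : Type u) [Group A] [Group B], (A ≃* B) → P A → P B) (h : ¬ P (↥K ⧸ pPrimeCore p ↥K)) :
    ¬ LpoAll p G P := by
  intro hall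
  obtain ⟨L, hL, ⟨e⟩⟩ := comp_image p hK hp
  exact h (hP _ _ e.symm (hall x hx hr L hL))

end Lp

/-! ### Central quotients of matrix groups -/

/-- Data for a component of `C_G(π x)` in a quotient `π : X → G`: a group `H` with a homomorphism `φ : H → X` (say a
block embedding), commuting with `x` modulo `ker π`, such that every `g` commuting with `x` modulo `ker π` normalizes
the image of `φ` modulo `ker π`, or moves it to a subgroup commuting with it modulo `ker π`. -/
structure Cover {X : Type u} {G : Type v} {H : Type w} [Group X] [Group G] [Group H] (π : X →* G) (φ : H →* X)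
    (x : X) : Prop where
  surj : Function.Surjective π
  comm : ∀ h : H, π (φ h) * π x = π x * π (φ h)
  conj : ∀ g : X, π (g * x) = π (x * g) →
    (∀ h : H, ∃ h' : H, π (g * φ h * g⁻¹) = π (φ h')) ∨
      ∀ h h' : H, π (g * φ h * g⁻¹ * φ h') = π (φ h' * (g * φ h * g⁻¹))

theorem Cover.isComponentOf {X : Type u} {G : Type v} {H : Type w} [Group X] [Group G] [Group H] {π : X →* G}
    {φ : H →* X} {x : X} (c : Cover π φ x) (hq : IsQuasisimple ↥(π.comp φ).range) :
    IsComponentOf (π.comp φ).range (centralizer ({π x} : Set G)) := by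
  refine isComponentOf_of_conj ?_ hq ?_
  · rintro _ ⟨h, rfl⟩
    rw [mem_centralizer_singleton_iff]
    exact c.comm h
  · intro g hg
    obtain ⟨g, rfl⟩ := c.surj g
    rw [mem_centralizer_singleton_iff] at hg
    rcases c.conj g (by rw [map_mul, map_mul]; exact hg) with h | h
    · left
      rintro _ ⟨k, rfl⟩
      obtain ⟨h', hh⟩ := h k
      exact ⟨h', by
        change π (φ h') = π g * π (φ k) * (π g)⁻¹
        rw [← hh, map_mul, map_mul, map_inv]⟩
    · right
      rintro _ ⟨k, rfl⟩ _ ⟨k', rfl⟩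
      have h1 := h k k'
      rw [map_mul, map_mul, map_mul, map_inv, map_mul, map_mul, map_mul, map_inv] at h1
      exact h1

/-- The image of an injective `π ∘ φ` -/
noncomputable def rangeEquiv {X : Type u} {G : Type v} {H : Type w} [Group X] [Group G] [Group H] {π : X →* G}
    {φ : H →* X} (hi : Function.Injective (π.comp φ)) : H ≃* ↥(π.comp φ).range := MonoidHom.ofInjective hi

/-! ### Invariance -/

section congr

variable {X : Type u} {Y : Type v} [Group X] [Group Y]

theorem inGp_iff (e : X ≃* Y) (p : ℕ) : InGp p X ↔ InGp p Y := by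
  simp only [InGp, Congr.isQuasisimple_iff e, Congr.isPGroup_iff (Congr.ce e), Congr.isKnown_iff (Congr.cq e),
    Congr.inC_iff e, Congr.inT_iff e]

theorem inBTwo_iff (e : X ≃* Y) : InBTwo X ↔ InBTwo Y := by
  simp only [InBTwo, Congr.isQuasisimple_iff e, Congr.isPGroup_iff (Congr.ce e), Congr.iso_iff e,
    Congr.iso_iff (Congr.cq e), Congr.card_center e, Congr.ord_center_iff e]

theorem inCT_iff (e : X ≃* Y) (p : ℕ) : InCT p X ↔ InCT p Y := by
  simp only [InCT, Congr.inC_iff e, Congr.inT_iff e]

end congr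

end Cfsg.Agent.OddTab
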